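import Cfsg.Agent.H20.LF.Glue
import Cfsg.Agent.H888.L34.Model

/-!
# S5917, END type D: the group side (helper968)

* `card_dvd` : in the situation `Sit H f` the order of `H` divides `12 * 20160`;
* `no13`, `no49` : so `13` and `49` do not divide it.
-/

set_option autoImplicit false
set_option linter.unusedSectionVars false
set_option maxRecDepth 100000

namespace Cfsg.Agent.H968.L34

open Subgroup Cfsg Cfsg.Lie Matrix
open Cfsg.Agent.H939.L64 (KK E2 LK L2 a2 em aK rE)
open Cfsg.Agent.H888.L34.Model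
open Cfsg.Agent.H20.LF Cfsg.Agent.H793.RIM

theorem card_dvd' {F : Type} [Field F] [Fintype F] (hF : Fintype.card F = 4) {G : Type} [Group G] [Finite G]
    {H : Subgroup G} {f : P3 F →* G} (inj : Function.Injective f) (le : ∀ s, f s ∈ H)
    (nor : ∀ h ∈ H, ∃ τ : P3 F ≃* P3 F, ∀ s, f (τ s) = h * f s * h⁻¹)
    (tri : ∀ g ∈ H, (∀ s, Commute g (f s)) → g = 1) : Nat.card H ∣ 12 * 20160 := by
  have hle : f.range ≤ H := by
    rintro _ ⟨s, rfl⟩
    exact le s
  generalize hS : f.range.subgroupOf H = S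
  have hmem : ∀ x : ↥H, x ∈ S ↔ ∃ s, f s = (x : G) := by
    intro x
    rw [← hS, Subgroup.mem_subgroupOf, MonoidHom.mem_range]
  have e : ↥S ≃* P3 F := by
    rw [← hS]
    exact (Subgroup.subgroupOfEquivOfLe hle).trans (MonoidHom.ofInjective inj).symm
  have hn : S.Normal := by
    refine ⟨fun n hn g => ?_⟩
    rw [hmem] at hn ⊢
    obtain ⟨s, hs⟩ := hn
    obtain ⟨τ, hτ⟩ := nor g g.2
    refine ⟨τ s, ?_⟩
    rw [hτ s, hs]
    rfl
  have hB := b34_psl hF
  have hBS : B34 ↥S := b34_congr e.symm hB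
  have hna := na_of_b34 hBS
  have hs := hBS.simple
  have hI : (MulAut.conj : ↥S →* MulAut ↥S).range.index = 12 :=
    Cfsg.Agent.H199.RIM.idx_l34 hna hF e
  have hC : centralizer (S : Set ↥H) = ⊥ := by
    rw [Subgroup.eq_bot_iff_forall]
    intro x hx
    apply Subtype.ext
    refine tri x x.2 fun s => ?_
    have h1 : (⟨f s, le s⟩ : ↥H) ∈ S := (hmem _).2 ⟨s, rfl⟩
    exact (congrArg Subtype.val (mem_centralizer_iff.1 hx _ h1)).symm
  have h1 := card_index_dvd S hC
  rw [hI] at h1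
  rw [← S.index_mul_card, hBS.card]
  exact Nat.mul_dvd_mul_right h1 _

variable {F : Type} [Field F] {H : Subgroup E2} {f : P3 F →* E2}

theorem card_dvd [Fintype F] (S : Sit H f) (hF : Fintype.card F = 4) : Nat.card H ∣ 12 * 20160 :=
  card_dvd' hF S.inj S.le S.nor S.tri

theorem no13 [Fintype F] (S : Sit H f) (hF : Fintype.card F = 4) {g : E2} (hg : g ∈ H) (ho : orderOf g = 13) : False := by
  have h1 : orderOf (⟨g, hg⟩ : ↥H) ∣ Nat.card H := orderOf_dvd_natCard _
  rw [Subgroup.orderOf_mk, ho] at h1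
  have h2 := h1.trans (card_dvd S hF)
  norm_num at h2

theorem no49 [Fintype F] (S : Sit H f) (hF : Fintype.card F = 4) {K : Subgroup E2} (hK : K ≤ H) (h : 49 ∣ Nat.card K) :
    False := by
  have h2 := (h.trans (Subgroup.card_dvd_of_le hK)).trans (card_dvd S hF)
  norm_num at h2

end Cfsg.Agent.H968.L34
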